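import Mathlib

/-!
# S2522 (nonscalar det-1 matrix = product of two regular unipotents): shared definitions

Driver: helper4.  Everything is basis-free: `V` is a finite-dimensional `K`-space, `g : Module.End K V`.

* `RegUnip u`   : `u - 1` nilpotent with one-dimensional kernel (a "regular unipotent").
* `Good g y ξ`  : `g = u₁ * u₂` with `u₁ u₂` regular unipotent, `y ∉ range (u₁ - 1)` and
                  `ξ` nonzero on `ker (u₂ - 1)`.
* `Nice g`      : `g` is not a scalar and `rank (g - 1) ≥ 2`.
* `comp g e φ h`: the "Schur complement" of `g` on `W = ker φ` (needs `φ (g e) = 1`):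
                  `w ↦ g w - φ (g w) • g e`.
* `yv`, `xiv`   : the vector `g e - e ∈ ker φ` and the functional `w ↦ φ (g w)` on `ker φ`.
* `HK4 K`       : `K` has at least four elements (usable form).
-/

set_option autoImplicit false

namespace Cfsg.Agent.S2522P

open Module

variable {K : Type*} [Field K] {V : Type*} [AddCommGroup V] [Module K V]

/-- `K` has at least four elements. -/
def HK4 (K : Type*) [Field K] : Prop := ∀ a b c : K, ∃ x : K, x ≠ a ∧ x ≠ b ∧ x ≠ c

/-- regular unipotent endomorphism -/
def RegUnip (u : Module.End K V) : Prop :=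
  IsNilpotent (u - 1) ∧ Module.finrank K (LinearMap.ker (u - 1)) = 1

/-- constrained factorisation into two regular unipotents -/
def Good (g : Module.End K V) (y : V) (ξ : Module.Dual K V) : Prop :=
  ∃ u₁ u₂ : Module.End K V, RegUnip u₁ ∧ RegUnip u₂ ∧ g = u₁ * u₂ ∧
    y ∉ LinearMap.range (u₁ - 1) ∧ ∃ v ∈ LinearMap.ker (u₂ - 1), ξ v ≠ 0

/-- not a scalar, and `g - 1` has rank at least two -/
def Nice (g : Module.End K V) : Prop :=
  (¬ ∃ c : K, g = c • (1 : Module.End K V)) ∧
    2 ≤ Module.finrank K (LinearMap.range (g - 1))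

theorem comp_aux (g : Module.End K V) (e : V) (φ : Module.Dual K V) (h : φ (g e) = 1)
    (w : LinearMap.ker φ) : g (w : V) - φ (g (w : V)) • g e ∈ LinearMap.ker φ := by
  simp [LinearMap.mem_ker, h]

/-- the compression (Schur complement) of `g` along `(e, φ)`, an endomorphism of `ker φ` -/
def comp (g : Module.End K V) (e : V) (φ : Module.Dual K V) (h : φ (g e) = 1) :
    Module.End K (LinearMap.ker φ) where
  toFun w := ⟨g (w : V) - φ (g (w : V)) • g e, comp_aux g e φ h w⟩
  map_add' a b := by
    apply Subtype.ext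
    simp only [Submodule.coe_add, map_add, add_smul]
    abel
  map_smul' c a := by
    apply Subtype.ext
    simp only [Submodule.coe_smul, map_smul, smul_eq_mul, RingHom.id_apply, smul_sub, mul_smul]

@[simp] theorem comp_coe (g : Module.End K V) (e : V) (φ : Module.Dual K V) (h : φ (g e) = 1)
    (w : LinearMap.ker φ) : ((comp g e φ h w : LinearMap.ker φ) : V) = g (w : V) - φ (g (w : V)) • g e :=
  rfl

/-- the vector `g e - e` of `ker φ` -/
def yv (g : Module.End K V) (e : V) (φ : Module.Dual K V) (h1 : φ e = 1) (h : φ (g e) = 1) :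
    LinearMap.ker φ := ⟨g e - e, by simp [LinearMap.mem_ker, h1, h]⟩

@[simp] theorem yv_coe (g : Module.End K V) (e : V) (φ : Module.Dual K V) (h1 : φ e = 1)
    (h : φ (g e) = 1) : ((yv g e φ h1 h : LinearMap.ker φ) : V) = g e - e := rfl

/-- the functional `w ↦ φ (g w)` on `ker φ` -/
def xiv (g : Module.End K V) (φ : Module.Dual K V) : Module.Dual K (LinearMap.ker φ) :=
  (φ.comp g).comp (LinearMap.ker φ).subtype

@[simp] theorem xiv_apply (g : Module.End K V) (φ : Module.Dual K V) (w : LinearMap.ker φ) :
    xiv g φ w = φ (g (w : V)) := rfl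

end Cfsg.Agent.S2522P
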