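import Mathlib
import Cfsg.Agent.Helper4.S2522.Defs
import Cfsg.Agent.Helper24.S2522AV3
import Cfsg.Agent.Helper3.S2522N1TEST
import Cfsg.Agent.Helper18.S2522N1K1
import Cfsg.Agent.Helper3.S2522N2A
import Cfsg.Agent.Helper23.S2522XIVNE
import Cfsg.Agent.Helper23.S2522N2C
import Cfsg.Agent.Helper15.S2522N2B

set_option autoImplicit false

namespace Cfsg.Agent.S2522P

open Module

namespace CHOICEPHI

variable {K : Type*} [Field K] {V : Type*} [AddCommGroup V] [Module K V]

theorem e_ne_zero (g : Module.End K V) (e : V) (hne : ∀ c : K, g e ≠ c • e) : e ≠ 0 := by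
  intro h0
  apply hne 0
  rw [h0]; simp

theorem li_e_y (g : Module.End K V) (e : V) (hne : ∀ c : K, g e ≠ c • e) :
    LinearIndependent K ![e, g e - e] := by
  rw [LinearIndependent.pair_iff]
  intro s t hst
  by_cases ht : t = 0
  · subst ht
    simp only [zero_smul, add_zero] at hst
    rcases smul_eq_zero.1 hst with h | h
    · exact ⟨h, rfl⟩
    · exact absurd h (e_ne_zero g e hne)
  · exfalso
    apply hne ((t - s) / t)
    have h1 : t • g e = (t - s) • e := by
      have : s • e + t • (g e - e) = t • g e - (t - s) • e := by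
        rw [smul_sub, sub_smul]; abel
      rw [this] at hst
      exact sub_eq_zero.1 hst
    calc g e = t⁻¹ • (t • g e) := by rw [smul_smul, inv_mul_cancel₀ ht, one_smul]
      _ = t⁻¹ • ((t - s) • e) := by rw [h1]
      _ = ((t - s) / t) • e := by rw [smul_smul]; congr 1; field_simp

/-- a submodule of finrank `≥ 2` is not inside a line -/
theorem exists_notMem_span [FiniteDimensional K V] (S : Submodule K V)
    (hS : 2 ≤ Module.finrank K S) (y : V) : ∃ x ∈ S, x ∉ Submodule.span K {y} := by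
  by_contra hcon
  push_neg at hcon
  have hle : S ≤ Submodule.span K {y} := fun x hx => hcon x hx
  have h1 := Submodule.finrank_mono hle
  have h2 : Module.finrank K (Submodule.span K {y}) ≤ 1 := by
    have := finrank_span_le_card (R := K) ({y} : Set V)
    simpa using this
  omega

theorem y0_notMem (y₀ y : V) (hy : y₀ ≠ 0) (h : y ∉ Submodule.span K {y₀}) :
    y₀ ∉ Submodule.span K {y} := by
  intro hmem
  rw [Submodule.mem_span_singleton] at hmem
  obtain ⟨a, ha⟩ := hmem
  have ha0 : a ≠ 0 := by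
    intro h0; rw [h0, zero_smul] at ha; exact hy ha.symm
  apply h
  rw [Submodule.mem_span_singleton]
  refine ⟨a⁻¹, ?_⟩
  rw [← ha, smul_smul, inv_mul_cancel₀ ha0, one_smul]

theorem bijective_of_det [FiniteDimensional K V]
    (g : Module.End K V) (hdet : LinearMap.det g = 1) : Function.Bijective g := by
  have hu : IsUnit (LinearMap.det g) := by rw [hdet]; exact isUnit_one
  have := (LinearMap.isUnit_iff_isUnit_det g).2 hu
  exact (Module.End.isUnit_iff g).1 this

end CHOICEPHI

namespace CHOICEPHI4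

variable {K : Type*} [Field K] {V : Type*} [AddCommGroup V] [Module K V]

open CHOICEPHI

theorem exists_phi (hK : HK4 K) [FiniteDimensional K V] (hn : 4 ≤ Module.finrank K V)
    (g : Module.End K V) (hdet : LinearMap.det g = 1) (hg : Nice g) (y₀ : V) (hy : y₀ ≠ 0) (e : V)
    (he2 : (g - 1) e ∉ Submodule.span K {y₀}) (hne : ∀ c : K, g e ≠ c • e)
    (he3 : LinearMap.range (g - 1) ≠ ⊤ → e ∉ LinearMap.range (g - 1)) :
    ∃ (φ : Module.Dual K V) (_h1 : φ e = 1) (h : φ (g e) = 1),
      φ y₀ ≠ 0 ∧ xiv g φ ≠ 0 ∧ Nice (comp g e φ h) := by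
  have hbij := bijective_of_det g hdet
  have hRe : (g - 1) e = g e - e := by simp
  have hli := li_e_y g e hne
  have hy0 : y₀ ∉ Submodule.span K {g e - e} := y0_notMem y₀ _ hy (hRe ▸ he2)
  obtain ⟨i₁, hi₁, hi₁'⟩ := exists_notMem_span (LinearMap.range (g - 1)) hg.2 (g e - e)
  obtain ⟨v₁, hv₁⟩ := hi₁
  -- split on the rank
  rcases Nat.lt_or_ge (Module.finrank K (LinearMap.range (g - 1))) 3 with hr | hr
  · -- rank two
    have hr2 : Module.finrank K (LinearMap.range (g - 1)) = 2 := le_antisymm (by omega) hg.2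
    have hker : 2 ≤ Module.finrank K (LinearMap.ker (g - 1)) := by
      have := LinearMap.finrank_range_add_finrank_ker (g - 1)
      omega
    obtain ⟨k₁, hk₁, hk₁'⟩ := exists_notMem_span (LinearMap.ker (g - 1)) hker (g e - e)
    have hk₁0 : (g - 1) k₁ = 0 := hk₁
    have hntop : LinearMap.range (g - 1) ≠ ⊤ := by
      intro htop
      rw [htop, finrank_top] at hr2
      omega
    obtain ⟨φ, hφe, hφy, h1, h2, h3⟩ := AV3.exists_dual hK e (g e - e) hli y₀ i₁ k₁ 0 0 0
      hy0 hi₁' hk₁' (Or.inl rfl) (Or.inl rfl) (Or.inl rfl)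
    have hφge : φ (g e) = 1 := by
      have : φ (g e - e) = 0 := hφy
      rw [map_sub, hφe] at this
      exact sub_eq_zero.1 this
    have hN2 := N2C.rank_of_two g hbij hg.2 e (he3 hntop) φ hφe hφge k₁ hk₁0 h3
    refine ⟨φ, hφe, hφge, h1, ?_, ?_, hN2⟩
    · exact XIVNE.xiv_ne_zero g e φ hφe hφge v₁ (by rw [hv₁]; exact h2)
    · exact N1K1.not_scalar_of_ker g e φ hφe hφge hker hN2
  · -- rank at least three
    obtain ⟨v₃, t₃, hv₃, htest⟩ := N1TEST.exists_test (by omega) g hbij.2 e hne
    have hv₃' : v₃ ∉ Submodule.span K {g e - e} := by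
      intro hmem
      apply hv₃
      exact Submodule.span_mono (by simp) hmem
    obtain ⟨φ, hφe, hφy, h1, h2, h3⟩ := AV3.exists_dual hK e (g e - e) hli y₀ i₁ v₃ 0 0 t₃
      hy0 hi₁' hv₃' (Or.inl rfl) (Or.inl rfl) (Or.inr hv₃)
    have hφge : φ (g e) = 1 := by
      have : φ (g e - e) = 0 := hφy
      rw [map_sub, hφe] at this
      exact sub_eq_zero.1 this
    have hN2 : 2 ≤ Module.finrank K (LinearMap.range (comp g e φ hφge - 1)) := by
      by_cases htop : LinearMap.range (g - 1) = ⊤
      · exact N2A.rank_of_top hn g htop e φ hφe hφge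
      · exact N2B.rank_of_three g hbij hr e (he3 htop) φ hφe hφge
    refine ⟨φ, hφe, hφge, h1, ?_, ?_, hN2⟩
    · exact XIVNE.xiv_ne_zero g e φ hφe hφge v₁ (by rw [hv₁]; exact h2)
    · exact htest φ hφe hφge h3

end CHOICEPHI4

end Cfsg.Agent.S2522P
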