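import Mathlib
import Cfsg.Agent.Helper4.S2522.Defs
import Cfsg.Agent.Helper24.S2522AV3
import Cfsg.Agent.Helper3.S2522N1TEST
import Cfsg.Agent.Helper23.S2522N1CYC
import Cfsg.Agent.Helper23.S2522XIVNE
import Cfsg.Agent.Helper23.S2522N2C
import Cfsg.Agent.Helper23.S2522N2D
import Cfsg.Agent.Helper15.S2522N2E
import Cfsg.Agent.Helper4.S2522.ChoicePhi4

set_option autoImplicit false

namespace Cfsg.Agent.S2522P

open Module

namespace CHOICEPHI3

variable {K : Type*} [Field K] {V : Type*} [AddCommGroup V] [Module K V]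

open CHOICEPHI

theorem li_e_ge (g : Module.End K V) (e : V) (hne : ∀ c : K, g e ≠ c • e) :
    LinearIndependent K ![e, g e] := by
  rw [LinearIndependent.pair_iff]
  intro s t hst
  by_cases ht : t = 0
  · subst ht
    simp only [zero_smul, add_zero] at hst
    rcases smul_eq_zero.1 hst with h | h
    · exact ⟨h, rfl⟩
    · exact absurd h (e_ne_zero g e hne)
  · exfalso
    apply hne (-s / t)
    have h1 : t • g e = (-s) • e := by
      rw [neg_smul]; exact eq_neg_of_add_eq_zero_right hst
    calc g e = t⁻¹ • (t • g e) := by rw [smul_smul, inv_mul_cancel₀ ht, one_smul]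
      _ = t⁻¹ • ((-s) • e) := by rw [h1]
      _ = (-s / t) • e := by rw [smul_smul]; congr 1; field_simp

theorem li_three (g : Module.End K V) (e : V) (hne : ∀ c : K, g e ≠ c • e)
    (hmem : g (g e) ∉ Submodule.span K {e, g e}) : LinearIndependent K ![e, g e, g (g e)] := by
  have h2 := li_e_ge g e hne
  rw [Fintype.linearIndependent_iff]
  intro c hc
  rw [Fin.sum_univ_three] at hc
  simp only [Matrix.cons_val_zero, Matrix.cons_val_one, Matrix.cons_val_two, Matrix.head_cons,
    Matrix.tail_cons] at hc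
  have hc2 : c 2 = 0 := by
    by_contra h
    apply hmem
    have : g (g e) = (-(c 0) / c 2) • e + (-(c 1) / c 2) • g e := by
      have h3 : c 2 • g (g e) = -(c 0 • e + c 1 • g e) := eq_neg_of_add_eq_zero_right hc
      calc g (g e) = (c 2)⁻¹ • (c 2 • g (g e)) := by rw [smul_smul, inv_mul_cancel₀ h, one_smul]
        _ = (c 2)⁻¹ • (-(c 0 • e + c 1 • g e)) := by rw [h3]
        _ = (-(c 0) / c 2) • e + (-(c 1) / c 2) • g e := by
          rw [smul_neg, smul_add, smul_smul, smul_smul, neg_add, ← neg_smul, ← neg_smul]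
          congr 2 <;> field_simp
    rw [this]
    exact Submodule.add_mem _ (Submodule.smul_mem _ _ (Submodule.subset_span (by simp)))
      (Submodule.smul_mem _ _ (Submodule.subset_span (by simp)))
  rw [hc2, zero_smul, add_zero] at hc
  have := (LinearIndependent.pair_iff.1 h2) (c 0) (c 1) hc
  intro i
  fin_cases i
  · exact this.1
  · exact this.2
  · exact hc2

theorem coeffs_of_li (g : Module.End K V) (e : V) (hli : LinearIndependent K ![e, g e, g (g e)])
    (a b c : K) (h : a • e + b • g e + c • g (g e) = 0) : a = 0 ∧ b = 0 ∧ c = 0 := by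
  rw [Fintype.linearIndependent_iff] at hli
  have := hli ![a, b, c] (by
    rw [Fin.sum_univ_three]
    simpa using h)
  exact ⟨by simpa using this 0, by simpa using this 1, by simpa using this 2⟩

theorem exists_phi (hK : HK4 K) [FiniteDimensional K V] (hn : Module.finrank K V = 3)
    (g : Module.End K V) (hdet : LinearMap.det g = 1) (hg : Nice g) (y₀ : V) (hy : y₀ ≠ 0) (e : V)
    (he2 : (g - 1) e ∉ Submodule.span K {y₀}) (hne : ∀ c : K, g e ≠ c • e)
    (he3 : LinearMap.range (g - 1) ≠ ⊤ → e ∉ LinearMap.range (g - 1)) :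
    ∃ (φ : Module.Dual K V) (_h1 : φ e = 1) (h : φ (g e) = 1),
      φ y₀ ≠ 0 ∧ xiv g φ ≠ 0 ∧ Nice (comp g e φ h) := by
  have hbij := bijective_of_det g hdet
  have hRe : (g - 1) e = g e - e := by simp
  have hli := li_e_y g e hne
  have hy0 : y₀ ∉ Submodule.span K {g e - e} := y0_notMem y₀ _ hy (hRe ▸ he2)
  obtain ⟨i₁, hi₁, hi₁'⟩ := exists_notMem_span (LinearMap.range (g - 1)) hg.2 (g e - e)
  obtain ⟨v₁, hv₁⟩ := hi₁
  have hφge_of : ∀ φ : Module.Dual K V, φ e = 1 → φ (g e - e) = 0 → φ (g e) = 1 := by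
    intro φ hφe hφy
    rw [map_sub, hφe] at hφy
    exact sub_eq_zero.1 hφy
  by_cases hmem : g (g e) ∈ Submodule.span K {e, g e}
  · -- non-cyclic `e`
    obtain ⟨v₃, t₃, hv₃, htest⟩ := N1TEST.exists_test (by omega) g hbij.2 e hne
    have hv₃' : v₃ ∉ Submodule.span K {g e - e} := by
      intro hm
      apply hv₃
      exact Submodule.span_mono (by simp) hm
    obtain ⟨φ, hφe, hφy, h1, h2, h3⟩ := AV3.exists_dual hK e (g e - e) hli y₀ i₁ v₃ 0 0 t₃
      hy0 hi₁' hv₃' (Or.inl rfl) (Or.inl rfl) (Or.inr hv₃)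
    have hφge := hφge_of φ hφe hφy
    have hN2 := N2E.rank_noncyclic hn g hdet hg e hne hmem he3 φ hφe hφge
    refine ⟨φ, hφe, hφge, h1, ?_, ?_, hN2⟩
    · exact XIVNE.xiv_ne_zero g e φ hφe hφge v₁ (by rw [hv₁]; exact h2)
    · exact htest φ hφe hφge h3
  · -- cyclic `e`
    have hcyc := li_three g e hne hmem
    have hRy : ∀ a : K, (g - 1) (a • (g e - e)) = a • e + (-(2 * a)) • g e + a • g (g e) := by
      intro a
      simp only [LinearMap.sub_apply, Module.End.one_apply, map_smul, map_sub]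
      module
    by_cases htop : LinearMap.range (g - 1) = ⊤
    · obtain ⟨z, hz⟩ := LinearMap.range_eq_top.1 htop (g e)
      have hz' : z ∉ Submodule.span K {g e - e} := by
        intro hm
        rw [Submodule.mem_span_singleton] at hm
        obtain ⟨a, ha⟩ := hm
        rw [← ha, hRy a] at hz
        have h0 : a • e + (-(2 * a) - 1) • g e + a • g (g e) = 0 := by
          rw [sub_smul, one_smul]
          have : a • e + (-(2 * a) • g e - g e) + a • g (g e) =
              (a • e + (-(2 * a)) • g e + a • g (g e)) - g e := by abel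
          rw [this, hz, sub_self]
        obtain ⟨ha0, hb0, -⟩ := coeffs_of_li g e hcyc _ _ _ h0
        rw [ha0] at hb0
        simp at hb0
      obtain ⟨φ, hφe, hφy, h1, h2, h3⟩ := AV3.exists_dual hK e (g e - e) hli y₀ i₁ z 0 0 0
        hy0 hi₁' hz' (Or.inl rfl) (Or.inl rfl) (Or.inl rfl)
      have hφge := hφge_of φ hφe hφy
      have hN2 := N2D.rank_dim_three hn g htop e φ hφe hφge z hz h3
      refine ⟨φ, hφe, hφge, h1, ?_, ?_, hN2⟩
      · exact XIVNE.xiv_ne_zero g e φ hφe hφge v₁ (by rw [hv₁]; exact h2)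
      · exact N1CYC.not_scalar_of_cyclic g e φ hφe hφge hcyc
    · -- rank two: a fixed vector
      have hker : 1 ≤ Module.finrank K (LinearMap.ker (g - 1)) := by
        have h1 := LinearMap.finrank_range_add_finrank_ker (g - 1)
        have h2 : Module.finrank K (LinearMap.range (g - 1)) < Module.finrank K V := by
          exact Submodule.finrank_lt htop
        omega
      obtain ⟨k, hk⟩ := Module.finrank_pos_iff_exists_ne_zero.1 (show 0 < _ from hker)
      have hk0 : (g - 1) (k : V) = 0 := k.2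
      have hkne : (k : V) ≠ 0 := fun h => hk (Subtype.ext h)
      have hk' : (k : V) ∉ Submodule.span K {g e - e} := by
        intro hm
        rw [Submodule.mem_span_singleton] at hm
        obtain ⟨a, ha⟩ := hm
        rw [← ha, hRy a] at hk0
        obtain ⟨ha0, -, -⟩ := coeffs_of_li g e hcyc _ _ _ hk0
        apply hkne
        rw [← ha, ha0, zero_smul]
      obtain ⟨φ, hφe, hφy, h1, h2, h3⟩ := AV3.exists_dual hK e (g e - e) hli y₀ i₁ (k : V) 0 0 0
        hy0 hi₁' hk' (Or.inl rfl) (Or.inl rfl) (Or.inl rfl)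
      have hφge := hφge_of φ hφe hφy
      have hN2 := N2C.rank_of_two g hbij hg.2 e (he3 htop) φ hφe hφge (k : V) hk0 h3
      refine ⟨φ, hφe, hφge, h1, ?_, ?_, hN2⟩
      · exact XIVNE.xiv_ne_zero g e φ hφe hφge v₁ (by rw [hv₁]; exact h2)
      · exact N1CYC.not_scalar_of_cyclic g e φ hφe hφge hcyc

end CHOICEPHI3

end Cfsg.Agent.S2522P
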