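import Mathlib
import Cfsg.Agent.Helper4.S2522.Defs
import Cfsg.Agent.Helper4.S2522CHOICEE
import Cfsg.Agent.Helper23.S2522CHOICE2
import Cfsg.Agent.Helper23.S2522DIM1
import Cfsg.Agent.Helper16.S2522COMPRESS
import Cfsg.Agent.Helper18.S2522DETCOMP
import Cfsg.Agent.Helper4.S2522.ChoicePhi4
import Cfsg.Agent.Helper4.S2522.ChoicePhi3

set_option autoImplicit false

namespace Cfsg.Agent.S2522P

open Module

namespace MAIN

universe u v

variable {K : Type v} [Field K]

theorem bijective_of_det {V : Type u} [AddCommGroup V] [Module K V] [FiniteDimensional K V]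
    (g : Module.End K V) (hdet : LinearMap.det g = 1) : Function.Bijective g := by
  have hu : IsUnit (LinearMap.det g) := by rw [hdet]; exact isUnit_one
  have := (LinearMap.isUnit_iff_isUnit_det g).2 hu
  exact (Module.End.isUnit_iff g).1 this

theorem finrank_ker_dual {V : Type u} [AddCommGroup V] [Module K V] [FiniteDimensional K V]
    (φ : Module.Dual K V) (hφ : φ ≠ 0) :
    Module.finrank K (LinearMap.ker φ) + 1 = Module.finrank K V := by
  have h := LinearMap.finrank_range_add_finrank_ker φ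
  have hr : Module.finrank K (LinearMap.range φ) = 1 := by
    have : LinearMap.range φ = ⊤ := LinearMap.range_eq_top.2 (LinearMap.surjective_of_ne_zero hφ)
    rw [this, finrank_top, Module.finrank_self]
  omega

/-- the choice lemma in all dimensions `≥ 2` (for `n = 2` the niceness of the compression is
replaced by `True`) -/
theorem choice (hK : HK4 K) {V : Type u} [AddCommGroup V] [Module K V] [FiniteDimensional K V]
    (hn : 2 ≤ Module.finrank K V) (g : Module.End K V) (hdet : LinearMap.det g = 1) (hg : Nice g)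
    (y₀ : V) (hy : y₀ ≠ 0) (ξ₀ : Module.Dual K V) (hξ : ξ₀ ≠ 0) :
    ∃ (e : V) (φ : Module.Dual K V) (_h1 : φ e = 1) (h : φ (g e) = 1),
      ξ₀ e ≠ 0 ∧ φ y₀ ≠ 0 ∧ g e - e ≠ 0 ∧ xiv g φ ≠ 0 ∧
      (3 ≤ Module.finrank K V → Nice (comp g e φ h)) := by
  obtain ⟨e, he1, he2, hne, he3⟩ := CHOICEE.exists_e hK g hg y₀ ξ₀ hξ
  have hye : g e - e ≠ 0 := by
    intro h0
    apply hne 1
    rw [one_smul]; exact sub_eq_zero.1 h0
  rcases Nat.lt_or_ge (Module.finrank K V) 3 with h3 | h3
  · have h2 : Module.finrank K V = 2 := by omega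
    obtain ⟨φ, h1, h, hφy, hxi⟩ := CHOICE2.exists_phi h2 g hg y₀ hy e he2 hne
    exact ⟨e, φ, h1, h, he1, hφy, hye, hxi, fun h' => by omega⟩
  · rcases Nat.lt_or_ge (Module.finrank K V) 4 with h4 | h4
    · have h3' : Module.finrank K V = 3 := by omega
      obtain ⟨φ, h1, h, hφy, hxi, hnice⟩ :=
        CHOICEPHI3.exists_phi hK h3' g hdet hg y₀ hy e he2 hne he3
      exact ⟨e, φ, h1, h, he1, hφy, hye, hxi, fun _ => hnice⟩
    · obtain ⟨φ, h1, h, hφy, hxi, hnice⟩ :=
        CHOICEPHI4.exists_phi hK h4 g hdet hg y₀ hy e he2 hne he3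
      exact ⟨e, φ, h1, h, he1, hφy, hye, hxi, fun _ => hnice⟩

/-- **M(n)**: a nice endomorphism of determinant one is `Good` for all nonzero `(y, ξ)`. -/
theorem good_of_nice (hK : HK4 K) : ∀ (n : ℕ), 2 ≤ n → ∀ (V : Type u) [AddCommGroup V] [Module K V]
    [FiniteDimensional K V], Module.finrank K V = n → ∀ g : Module.End K V,
    LinearMap.det g = 1 → Nice g → ∀ y : V, y ≠ 0 → ∀ ξ : Module.Dual K V, ξ ≠ 0 → Good g y ξ := by
  intro n hn
  induction n, hn using Nat.le_induction with
  | base =>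
    intro V _ _ _ hV g hdet hg y hy ξ hξ
    obtain ⟨e, φ, h1, h, hξe, hφy, hye, hxi, -⟩ := choice hK (by omega) g hdet hg y hy ξ hξ
    have hφ0 : φ ≠ 0 := by
      intro h0; rw [h0] at h1; simp at h1
    have hdim : Module.finrank K (LinearMap.ker φ) = 1 := by
      have := finrank_ker_dual φ hφ0; omega
    have hyv : yv g e φ h1 h ≠ 0 := by
      intro h0
      apply hye
      have := congrArg (fun w : LinearMap.ker φ => (w : V)) h0
      simpa using this
    have hG : Good (comp g e φ h) (yv g e φ h1 h) (xiv g φ) :=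
      DIM1.good_dim_one hdim _ (by rw [DETCOMP.det_comp g e φ h1 h, hdet]) _ hyv _ hxi
    exact COMPRESS.good_of_comp g e φ h1 h hG y ξ hφy hξe
  | succ n hn ih =>
    intro V _ _ _ hV g hdet hg y hy ξ hξ
    obtain ⟨e, φ, h1, h, hξe, hφy, hye, hxi, hnice⟩ := choice hK (by omega) g hdet hg y hy ξ hξ
    have hφ0 : φ ≠ 0 := by
      intro h0; rw [h0] at h1; simp at h1
    have hdim : Module.finrank K (LinearMap.ker φ) = n := by
      have := finrank_ker_dual φ hφ0; omega
    have hyv : yv g e φ h1 h ≠ 0 := by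
      intro h0
      apply hye
      have := congrArg (fun w : LinearMap.ker φ => (w : V)) h0
      simpa using this
    have hG : Good (comp g e φ h) (yv g e φ h1 h) (xiv g φ) :=
      ih (LinearMap.ker φ) hdim _ (by rw [DETCOMP.det_comp g e φ h1 h, hdet]) (hnice (by omega))
        _ hyv _ hxi
    exact COMPRESS.good_of_comp g e φ h1 h hG y ξ hφy hξe

end MAIN

end Cfsg.Agent.S2522P
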