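import Mathlib
import Cfsg.Agent.Helper4.S2522.Defs
import Cfsg.Agent.Helper9.S2522CARD4
import Cfsg.Agent.Helper22.S2522REGJ
import Cfsg.Agent.Helper16.S2522TRANSV
import Cfsg.Agent.Helper4.S2522.Main

set_option autoImplicit false

namespace Cfsg.Agent.S2522P

open Module

namespace FINAL

variable {K : Type*} [Field K]

/-- matrix form: a nonscalar matrix of determinant one is a product of two matrices whose
`toLin'` are regular unipotent -/
theorem exists_regUnip_factor (hK : HK4 K) (n : ℕ) (hn : 3 ≤ n) (M : Matrix (Fin n) (Fin n) K)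
    (hM : ¬ ∃ c : K, M = c • (1 : Matrix (Fin n) (Fin n) K)) (hdet : M.det = 1) :
    ∃ M₁ M₂ : Matrix (Fin n) (Fin n) K, RegUnip (Matrix.toLin' M₁) ∧ RegUnip (Matrix.toLin' M₂) ∧
      M = M₁ * M₂ := by
  set g : Module.End K (Fin n → K) := Matrix.toLin' M with hgdef
  have hdim : Module.finrank K (Fin n → K) = n := by simp
  have hgdet : LinearMap.det g = 1 := by rw [hgdef, LinearMap.det_toLin', hdet]
  have hns : ¬ ∃ c : K, g = c • (1 : Module.End K (Fin n → K)) := by
    rintro ⟨c, hc⟩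
    apply hM
    refine ⟨c, ?_⟩
    have : Matrix.toLin' M = Matrix.toLin' (c • (1 : Matrix (Fin n) (Fin n) K)) := by
      rw [← hgdef, hc, map_smul, Matrix.toLin'_one]; rfl
    exact Matrix.toLin'.injective this
  -- factor as endomorphisms
  have key : ∃ u₁ u₂ : Module.End K (Fin n → K), RegUnip u₁ ∧ RegUnip u₂ ∧ g = u₁ * u₂ := by
    rcases Nat.lt_or_ge (Module.finrank K (LinearMap.range (g - 1))) 2 with hr | hr
    · -- rank ≤ 1 : a transvection
      have hr1 : Module.finrank K (LinearMap.range (g - 1)) = 1 := by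
        rcases Nat.eq_zero_or_pos (Module.finrank K (LinearMap.range (g - 1))) with h0 | h0
        · exfalso
          apply hns
          refine ⟨1, ?_⟩
          have hbot : LinearMap.range (g - 1) = ⊥ := Submodule.finrank_eq_zero.1 h0
          have : g - 1 = 0 := LinearMap.range_eq_bot.1 hbot
          rw [one_smul]; exact sub_eq_zero.1 this
        · omega
      exact TRANSV.transvection_factor (by rw [hdim]; exact hn) g hgdet hr1
    · have hnice : Nice g := ⟨hns, hr⟩
      -- a nonzero vector and a nonzero functional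
      have hpos : 0 < n := by omega
      let i0 : Fin n := ⟨0, hpos⟩
      have hy : (Pi.single i0 (1 : K) : Fin n → K) ≠ 0 := by
        intro h0
        have := congrFun h0 i0
        simp at this
      have hξ : (LinearMap.proj i0 : (Fin n → K) →ₗ[K] K) ≠ 0 := by
        intro h0
        have := LinearMap.congr_fun h0 (Pi.single i0 (1 : K))
        simp at this
      obtain ⟨u₁, u₂, hu₁, hu₂, hprod, -, -⟩ :=
        MAIN.good_of_nice hK n (by omega) (Fin n → K) hdim g hgdet hnice _ hy _ hξ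
      exact ⟨u₁, u₂, hu₁, hu₂, hprod⟩
  obtain ⟨u₁, u₂, hu₁, hu₂, hprod⟩ := key
  refine ⟨LinearMap.toMatrix' u₁, LinearMap.toMatrix' u₂, ?_, ?_, ?_⟩
  · rwa [Matrix.toLin'_toMatrix']
  · rwa [Matrix.toLin'_toMatrix']
  · have : M = LinearMap.toMatrix' g := by rw [hgdef, LinearMap.toMatrix'_toLin']
    rw [this, hprod, Module.End.mul_eq_comp, LinearMap.toMatrix'_comp]

theorem final (hK : 4 ≤ Cardinal.mk K) (n : ℕ) (hn : 3 ≤ n) (J g : GL (Fin n) K)
    (hJ : ∀ i j : Fin n, (J : Matrix (Fin n) (Fin n) K) i j =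
      if i = j then 1 else if j.val = i.val + 1 then 1 else 0)
    (hg : ¬ ∃ c : K, (g : Matrix (Fin n) (Fin n) K) = c • (1 : Matrix (Fin n) (Fin n) K))
    (hdet : (g : Matrix (Fin n) (Fin n) K).det = 1) :
    ∃ x y : GL (Fin n) K, g = (x * J * x⁻¹) * (y * J * y⁻¹) := by
  have hK4 := CARD4.hk4_of_card hK
  obtain ⟨M₁, M₂, h₁, h₂, hprod⟩ := exists_regUnip_factor hK4 n hn _ hg hdet
  obtain ⟨x, hx⟩ := REGJ.conj_J (J : Matrix (Fin n) (Fin n) K) hJ M₁ h₁
  obtain ⟨y, hy⟩ := REGJ.conj_J (J : Matrix (Fin n) (Fin n) K) hJ M₂ h₂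
  refine ⟨x, y, ?_⟩
  apply Units.ext
  rw [hprod, hx, hy]
  simp only [Units.val_mul]

end FINAL

end Cfsg.Agent.S2522P
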